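import Mathlib
import Groth.Prelude.Def_FlatCA
import Groth.Agent.S9669

/-!
Associated primes of `N ⊗ M` and of `N/pN` (FlatCA.ass).
-/

set_option autoImplicit false

universe u

open TensorProduct

namespace Groth.Agent.H2Ass

variable {R S : Type u} [CommRing R] [CommRing S] [Algebra R S]

theorem ass_of_injective {A B : Type u} [AddCommGroup A] [Module S A] [AddCommGroup B] [Module S B]
    (f : A →ₗ[S] B) (hf : Function.Injective f) : FlatCA.ass S A ⊆ FlatCA.ass S B := by
  rintro q ⟨hq, x, rfl⟩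
  refine ⟨hq, f x, ?_⟩
  ext a
  simp only [Submodule.mem_annihilator_span_singleton]
  rw [← map_smul, map_eq_zero_iff f hf]

theorem ass_exact {A B C : Type u} [AddCommGroup A] [Module S A] [AddCommGroup B] [Module S B]
    [AddCommGroup C] [Module S C] (f : A →ₗ[S] B) (g : B →ₗ[S] C) (hf : Function.Injective f)
    (h : Function.Exact f g) {q : Ideal S} (hq : q ∈ FlatCA.ass S B) :
    q ∈ FlatCA.ass S A ∨ q ∈ FlatCA.ass S C := by
  obtain ⟨hqp, x, hx⟩ := hq
  have key : ∀ a : S, a ∈ q ↔ a • x = 0 := fun a => by rw [hx, Submodule.mem_annihilator_span_singleton]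
  by_cases hc : ∃ a, a ∉ q ∧ g (a • x) = 0
  · obtain ⟨a, ha, hga⟩ := hc
    obtain ⟨y, hy⟩ := (h _).1 hga
    refine Or.inl ⟨hqp, y, ?_⟩
    ext b
    rw [Submodule.mem_annihilator_span_singleton, ← map_eq_zero_iff f hf, map_smul, hy, smul_smul, ← key,
      hqp.mul_mem_iff_mem_or_mem, or_iff_left ha]
  · push Not at hc
    refine Or.inr ⟨hqp, g x, ?_⟩
    ext b
    rw [Submodule.mem_annihilator_span_singleton, ← map_smul]
    exact ⟨fun hb => by rw [(key b).1 hb, map_zero], fun hb => by_contra fun hn => hc b hn hb⟩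

variable (N : Type u) [AddCommGroup N] [Module S N] [Module R N] [IsScalarTower R S N]

theorem exists_quotMap {M : Type u} [AddCommGroup M] [Module R M] (p : Ideal R) (m : M) (hp : ∀ r ∈ p, r • m = 0) :
    ∃ f : (N ⧸ (p.map (algebraMap R S)) • (⊤ : Submodule S N)) →ₗ[S] N ⊗[R] M,
      ∀ n, f (Submodule.Quotient.mk n) = n ⊗ₜ m := by
  let g : N →ₗ[S] N ⊗[R] M :=
    { toFun := fun n => n ⊗ₜ m
      map_add' := fun a b => add_tmul a b m
      map_smul' := fun s n => rfl }
  refine ⟨Submodule.liftQ _ g ?_, fun n => rfl⟩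
  refine Submodule.smul_le.2 fun a ha n _ => ?_
  rw [LinearMap.mem_ker, map_smul]
  induction ha using Submodule.span_induction with
  | mem c hc =>
    obtain ⟨r, hr, rfl⟩ := hc
    rw [IsScalarTower.algebraMap_smul]
    show r • (n ⊗ₜ[R] m) = 0
    rw [← tmul_smul, hp r hr, tmul_zero]
  | zero => exact zero_smul _ _
  | add a b _ _ ha hb => rw [add_smul, ha, hb, add_zero]
  | smul c a _ ha => rw [smul_eq_mul, mul_smul, ha, smul_zero]

theorem quotMap_injective [Module.Flat R N] {M : Type u} [AddCommGroup M] [Module R M] (p : Ideal R) (m : M)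
    (hp : ∀ r, r • m = 0 ↔ r ∈ p)
    (f : (N ⧸ (p.map (algebraMap R S)) • (⊤ : Submodule S N)) →ₗ[S] N ⊗[R] M)
    (hf : ∀ n, f (Submodule.Quotient.mk n) = n ⊗ₜ m) : Function.Injective f := by
  let j : (R ⧸ p) →ₗ[R] M := Submodule.liftQ p (LinearMap.toSpanSingleton R M m) (fun r hr => (hp r).2 hr)
  have hj : Function.Injective j := by
    rw [← LinearMap.ker_eq_bot]
    exact Submodule.ker_liftQ_eq_bot _ _ _ fun r hr => (hp r).1 hr
  rw [injective_iff_map_eq_zero]
  intro z hz
  obtain ⟨n, rfl⟩ := Submodule.Quotient.mk_surjective _ z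
  rw [hf] at hz
  have h1 : n ⊗ₜ[R] (Ideal.Quotient.mk p 1) = 0 := by
    apply Module.Flat.lTensor_preserves_injective_linearMap (M := N) j hj
    rw [map_zero, LinearMap.lTensor_tmul]
    show n ⊗ₜ[R] ((1 : R) • m) = 0
    rw [one_smul, hz]
  have h2 := congrArg (TensorProduct.quotTensorEquivQuotSMul N p) (congrArg (TensorProduct.comm R N (R ⧸ p)) h1)
  rw [map_zero, map_zero, TensorProduct.comm_tmul, TensorProduct.quotTensorEquivQuotSMul_mk_tmul, one_smul] at h2
  rw [Submodule.Quotient.mk_eq_zero]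
  refine Submodule.smul_induction_on ((Submodule.Quotient.mk_eq_zero _).1 h2) (fun r hr z _ => ?_) (fun a b ha hb => add_mem ha hb)
  rw [← IsScalarTower.algebraMap_smul S r z]
  exact Submodule.smul_mem_smul (Ideal.mem_map_of_mem _ hr) trivial

theorem quotient_ass_subset [Module.Flat R N] {M : Type u} [AddCommGroup M] [Module R M] {p : Ideal R}
    (hp : p ∈ FlatCA.ass R M) :
    FlatCA.ass S (N ⧸ (p.map (algebraMap R S)) • (⊤ : Submodule S N)) ⊆ FlatCA.ass S (N ⊗[R] M) := by
  obtain ⟨hpp, m, hm⟩ := hp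
  have hiff : ∀ r, r • m = 0 ↔ r ∈ p := fun r => by rw [hm, Submodule.mem_annihilator_span_singleton]
  obtain ⟨f, hf⟩ := exists_quotMap (S := S) N p m fun r hr => (hiff r).2 hr
  exact ass_of_injective f (quotMap_injective N p m hiff f hf)

theorem ass_tensor_finite [IsNoetherianRing R] [Module.Flat R N] (M : Type u) [AddCommGroup M] [Module R M]
    (hM : Module.Finite R M) (q : Ideal S) (h : q ∈ FlatCA.ass S (N ⊗[R] M)) :
    q ∈ FlatCA.ass S (N ⧸ ((q.comap (algebraMap R S)).map (algebraMap R S)) • (⊤ : Submodule S N)) := by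
  revert h
  induction hM using IsNoetherianRing.induction_on_isQuotientEquivQuotientPrime R with
  | subsingleton M =>
    rintro ⟨hq, x, hx⟩
    have : ∀ z : N ⊗[R] M, z = 0 := fun z => by
      induction z with
      | zero => rfl
      | tmul a b => rw [Subsingleton.elim b 0, tmul_zero]
      | add a b ha hb => rw [ha, hb, add_zero]
    exact (hq.ne_top (by rw [hx, this x, Submodule.annihilator_eq_top_iff, Submodule.span_singleton_eq_bot])).elim
  | quotient M P e =>
    intro h
    let e' : N ⊗[R] M →ₗ[S] N ⊗[R] (R ⧸ P.1) := TensorProduct.AlgebraTensorModule.map LinearMap.id e.toLinearMap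
    have he' : Function.Injective e' :=
      Module.Flat.lTensor_preserves_injective_linearMap (M := N) e.toLinearMap e.injective
    have h1 := ass_of_injective e' he' h
    obtain ⟨f, hf⟩ := exists_quotMap (S := S) N P.1 (Ideal.Quotient.mk P.1 1) fun r hr => by
      rw [Algebra.smul_def, Ideal.Quotient.algebraMap_eq, ← map_mul, mul_one, Ideal.Quotient.eq_zero_iff_mem]
      exact hr
    have hfi : Function.Injective f := by
      refine quotMap_injective N P.1 _ (fun r => ?_) f hf
      rw [Algebra.smul_def, Ideal.Quotient.algebraMap_eq, ← map_mul, mul_one, Ideal.Quotient.eq_zero_iff_mem]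
    have hfs : Function.Surjective f := fun z => by
      induction z with
      | zero => exact ⟨0, map_zero f⟩
      | add a b ha hb => obtain ⟨a, rfl⟩ := ha; obtain ⟨b, rfl⟩ := hb; exact ⟨a + b, map_add f a b⟩
      | tmul n c =>
        obtain ⟨r, rfl⟩ := Ideal.Quotient.mk_surjective c
        refine ⟨Submodule.Quotient.mk (r • n), ?_⟩
        rw [hf, smul_tmul, Algebra.smul_def, Ideal.Quotient.algebraMap_eq, ← map_mul, mul_one]
    have h2 := ass_of_injective (LinearEquiv.ofBijective f ⟨hfi, hfs⟩).symm.toLinearMap (LinearEquiv.ofBijective f ⟨hfi, hfs⟩).symm.injective h1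
    have h3 := (Groth.Agent.S9669.main N P.1).2 q h2
    rw [h3]
    exact h2
  | exact M₁ M₂ M₃ f g hf hg hfg ih₁ ih₃ =>
    intro h
    let f' : N ⊗[R] M₁ →ₗ[S] N ⊗[R] M₂ := TensorProduct.AlgebraTensorModule.map LinearMap.id f
    let g' : N ⊗[R] M₂ →ₗ[S] N ⊗[R] M₃ := TensorProduct.AlgebraTensorModule.map LinearMap.id g
    have hf' : Function.Injective f' := Module.Flat.lTensor_preserves_injective_linearMap (M := N) f hf
    have hex : Function.Exact f' g' := lTensor_exact N hfg hg
    exact (ass_exact f' g' hf' hex h).elim ih₁ ih₃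

theorem fiber_comap (p : Ideal R) [p.IsPrime] (Q : Ideal (p.Fiber S))
    (hQ : Q ∈ FlatCA.ass (p.Fiber S) (FlatCA.fiberMod p S N)) :
    Q.comap (Algebra.TensorProduct.includeRight (R := R) (A := p.ResidueField) (B := S)).toRingHom ∈
      FlatCA.ass S (FlatCA.fiberMod p S N) := by
  obtain ⟨hQp, y, hy⟩ := hQ
  refine ⟨Ideal.IsPrime.comap _, y, ?_⟩
  ext s
  rw [Ideal.mem_comap, hy, Submodule.mem_annihilator_span_singleton, Submodule.mem_annihilator_span_singleton]
  letI := Algebra.TensorProduct.rightAlgebra (R := R) (A := p.ResidueField) (B := S)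
  change p.Fiber S ⊗[S] N at y
  show algebraMap S (p.Fiber S) s • y = 0 ↔ s • y = 0
  rw [IsScalarTower.algebraMap_smul]

end Groth.Agent.H2Ass
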