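import Mathlib
import Groth.Prelude.Def_FlatCA
import Groth.Agent.H2Ass.Basic

/-!
The fibre module over `p` is the localization of `N/pN` at `R ∖ p` (no flatness).
-/

set_option autoImplicit false

universe u

open TensorProduct

namespace Groth.Agent.H2Ass

attribute [local instance] Algebra.TensorProduct.rightAlgebra

variable {R S : Type u} [CommRing R] [CommRing S] [Algebra R S]
variable (N : Type u) [AddCommGroup N] [Module S N] [Module R N] [IsScalarTower R S N]
variable (p : Ideal R) [p.IsPrime]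

theorem tensor_kill (n : N) (h : (1 : p.ResidueField) ⊗ₜ[R] n = 0) :
    ∃ r ∉ p, r • n ∈ (p.map (algebraMap R S)) • (⊤ : Submodule S N) := by
  let B := R ⧸ p
  let K := p.ResidueField
  let Mb := B ⊗[R] N
  have h1 : (1 : K) ⊗ₜ[B] ((1 : B) ⊗ₜ[R] n) = (0 : K ⊗[B] Mb) := by
    apply (TensorProduct.AlgebraTensorModule.cancelBaseChange R B K K N).injective
    rw [TensorProduct.AlgebraTensorModule.cancelBaseChange_tmul, one_smul, map_zero, h]
  haveI : IsLocalizedModule (nonZeroDivisors B) ((TensorProduct.mk B K Mb) 1) :=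
    (isLocalizedModule_iff_isBaseChange (nonZeroDivisors B) K _).2 (TensorProduct.isBaseChange B Mb K)
  obtain ⟨⟨c, hc⟩, hcn⟩ := (IsLocalizedModule.eq_zero_iff (nonZeroDivisors B) ((TensorProduct.mk B K Mb) 1)).1 h1
  obtain ⟨r, rfl⟩ := Ideal.Quotient.mk_surjective c
  refine ⟨r, fun hr => nonZeroDivisors.ne_zero hc (Ideal.Quotient.eq_zero_iff_mem.2 hr), ?_⟩
  have h2 : (Ideal.Quotient.mk p 1) ⊗ₜ[R] (r • n) = (0 : B ⊗[R] N) := by
    rw [← smul_tmul, Algebra.smul_def, Ideal.Quotient.algebraMap_eq, ← map_mul, mul_one]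
    rw [← hcn]
    show _ = Ideal.Quotient.mk p r • ((1 : B) ⊗ₜ[R] n)
    rw [TensorProduct.smul_tmul', smul_eq_mul, mul_one]
  have h3 := congrArg (TensorProduct.quotTensorEquivQuotSMul N p) h2
  rw [TensorProduct.quotTensorEquivQuotSMul_mk_tmul, one_smul, map_zero] at h3
  refine Submodule.smul_induction_on ((Submodule.Quotient.mk_eq_zero _).1 h3) (fun r hr z _ => ?_) (fun a b ha hb => add_mem ha hb)
  rw [← IsScalarTower.algebraMap_smul S r z]
  exact Submodule.smul_mem_smul (Ideal.mem_map_of_mem _ hr) trivial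

theorem toFiber_kill (n : N) (h : FlatCA.toFiberMod p S N n = 0) :
    ∃ r ∉ p, r • n ∈ (p.map (algebraMap R S)) • (⊤ : Submodule S N) := by
  refine tensor_kill N p n ?_
  have h3 := congrArg (Groth.Agent.UnivInjFib.fibreToTensor (N := N) p) h
  erw [Groth.Agent.UnivInjFib.fibreToTensor_tmul, one_smul, map_zero] at h3
  exact h3

theorem fiber_kill (r : R) (hr : r ∈ p) (y : FlatCA.fiberMod p S N) : algebraMap R S r • y = 0 := by
  change p.Fiber S ⊗[S] N at y
  show algebraMap R S r • y = 0
  rw [← IsScalarTower.algebraMap_smul (p.Fiber S) (algebraMap R S r), ← IsScalarTower.algebraMap_apply R S (p.Fiber S),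
    IsScalarTower.algebraMap_apply R p.ResidueField (p.Fiber S), Ideal.algebraMap_residueField_eq_zero.2 hr, map_zero, zero_smul]

theorem toFiber_quot (n : N) (h : n ∈ (p.map (algebraMap R S)) • (⊤ : Submodule S N)) :
    FlatCA.toFiberMod p S N n = 0 := by
  refine Submodule.smul_induction_on h (fun a ha w _ => ?_) (fun a b ha hb => by rw [map_add, ha, hb, add_zero])
  rw [map_smul]
  induction ha using Submodule.span_induction with
  | mem c hc => obtain ⟨r, hr, rfl⟩ := hc; exact fiber_kill N p r hr _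
  | zero => exact zero_smul _ _
  | add a b _ _ ha hb => rw [add_smul, ha, hb, add_zero]
  | smul c a _ ha => rw [smul_eq_mul, mul_smul, ha, smul_zero]

theorem exists_prime_over (q : Ideal S) [q.IsPrime] (hq : q.comap (algebraMap R S) = p)
    (h : q ∈ FlatCA.ass S (FlatCA.fiberMod p S N)) :
    ∃ Q ∈ FlatCA.ass (p.Fiber S) (FlatCA.fiberMod p S N),
      Q.comap (Algebra.TensorProduct.includeRight (R := R) (A := p.ResidueField) (B := S)).toRingHom = q := by
  obtain ⟨-, y, hy⟩ := h
  have key : ∀ a : S, a ∈ q ↔ a • y = 0 := fun a => by rw [hy, Submodule.mem_annihilator_span_singleton]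
  have halg : ∀ s : S, algebraMap S (p.Fiber S) s • y = s • y := fun s => by
    change p.Fiber S ⊗[S] N at y
    show algebraMap S (p.Fiber S) s • y = s • y
    rw [IsScalarTower.algebraMap_smul]
  set Q := (Submodule.span (p.Fiber S) {y}).annihilator with hQ
  have hcomap : Q.comap (Algebra.TensorProduct.includeRight (R := R) (A := p.ResidueField) (B := S)).toRingHom = q := by
    ext s
    rw [Ideal.mem_comap, hQ, Submodule.mem_annihilator_span_singleton, key, ← halg]
    rfl
  have hrep : ∀ z : p.Fiber S, ∃ r ∉ p, ∃ s, r • z = algebraMap S (p.Fiber S) s ∧ (z ∈ Q ↔ s ∈ q) := by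
    intro z
    obtain ⟨r, hr, s, e⟩ := Ideal.Fiber.exists_smul_eq_one_tmul _ z
    have e' : r • z = algebraMap S (p.Fiber S) s := e
    refine ⟨r, hr, s, e', ?_⟩
    have hrs : algebraMap R S r ∉ q := by rw [← Ideal.mem_comap, hq]; exact hr
    have h1 : s • y = algebraMap R (p.Fiber S) r • (z • y) := by
      rw [← halg, ← e', Algebra.smul_def, mul_smul]
    have hu : IsUnit (algebraMap R (p.Fiber S) r) := by
      rw [IsScalarTower.algebraMap_apply R p.ResidueField (p.Fiber S)]
      exact (isUnit_iff_ne_zero.2 fun h => hr (Ideal.algebraMap_residueField_eq_zero.1 h)).map _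
    rw [hQ, Submodule.mem_annihilator_span_singleton, key, h1, hu.smul_eq_zero]
  refine ⟨Q, ⟨⟨?_, ?_⟩, y, rfl⟩, hcomap⟩
  · intro htop
    have : (1 : S) ∈ q := by rw [← hcomap, htop]; trivial
    exact ‹q.IsPrime›.ne_top ((Ideal.eq_top_iff_one q).2 this)
  · intro z w hzw
    obtain ⟨r, hr, s, e, hz⟩ := hrep z
    obtain ⟨r', hr', s', e', hw⟩ := hrep w
    have : algebraMap S (p.Fiber S) (s * s') ∈ Q := by
      rw [map_mul, ← e, ← e', Algebra.smul_def, Algebra.smul_def,
        show algebraMap R (p.Fiber S) r * z * (algebraMap R (p.Fiber S) r' * w) =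
          algebraMap R (p.Fiber S) r * algebraMap R (p.Fiber S) r' * (z * w) by ring]
      exact Q.mul_mem_left _ hzw
    have h2 : s * s' ∈ q := by rw [← hcomap]; exact this
    exact (‹q.IsPrime›.mem_or_mem h2).imp hz.2 hw.2

end Groth.Agent.H2Ass
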